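import Mathlib

/-!
# Project U3 (helper16), piece EXPLB3 : a concrete model of `F_9 = F_3(θ)`, `θ² = -1`, and of `3 × 3` matrices over it,
with the glue to an abstract field of nine elements.  (`lead`)
-/

set_option autoImplicit false

namespace Cfsg.Agent.Lib.Lead.U3

/-- the prime field `F_3`: `z = 0`, `o = 1`, `w = 2` -/
inductive E3 : Type
  | z | o | w
  deriving DecidableEq, Repr

namespace E3

def add : E3 → E3 → E3
  | z, y => y
  | x, z => x
  | o, o => w
  | o, w => z
  | w, o => z
  | w, w => o

def neg : E3 → E3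
  | z => z
  | o => w
  | w => o

def mul : E3 → E3 → E3
  | z, _ => z
  | _, z => z
  | o, y => y
  | x, o => x
  | w, w => o

end E3

/-- `F_9`: `re + im θ` -/
structure E9 : Type where
  re : E3
  im : E3
  deriving DecidableEq, Repr

namespace E9

def zero : E9 := ⟨E3.z, E3.z⟩
def one : E9 := ⟨E3.o, E3.z⟩

def add (x y : E9) : E9 := ⟨E3.add x.re y.re, E3.add x.im y.im⟩

def mul (x y : E9) : E9 :=
  ⟨E3.add (E3.mul x.re y.re) (E3.neg (E3.mul x.im y.im)), E3.add (E3.mul x.re y.im) (E3.mul x.im y.re)⟩

/-- the Frobenius `x ↦ x³` (conjugation) -/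
def frob (x : E9) : E9 := ⟨x.re, E3.neg x.im⟩

end E9

/-- concrete matrices: a list of rows -/
abbrev CM9 := List (List E9)

def ent (M : CM9) (i j : ℕ) : E9 := (M.getD i []).getD j E9.zero

def dot (M N : CM9) (i j : ℕ) : E9 :=
  E9.add (E9.add (E9.mul (ent M i 0) (ent N 0 j)) (E9.mul (ent M i 1) (ent N 1 j))) (E9.mul (ent M i 2) (ent N 2 j))

def row3 (f : ℕ → E9) : List E9 := [f 0, f 1, f 2]

def mk3 (f : ℕ → ℕ → E9) : CM9 := [row3 (f 0), row3 (f 1), row3 (f 2)]

def cmul (M N : CM9) : CM9 := mk3 (dot M N)

/-- `(Mᵀ M̄)_{ij} = Σ_l M_{li} M_{lj}³` -/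
def udot (M : CM9) (i j : ℕ) : E9 :=
  E9.add (E9.add (E9.mul (ent M 0 i) (E9.frob (ent M 0 j))) (E9.mul (ent M 1 i) (E9.frob (ent M 1 j))))
    (E9.mul (ent M 2 i) (E9.frob (ent M 2 j)))

def cone : CM9 := mk3 (fun i j => if i = j then E9.one else E9.zero)

def isU (M : CM9) : Bool := mk3 (udot M) == cone

def csmul (c : E9) (M : CM9) : CM9 := mk3 (fun i j => E9.mul c (ent M i j))

/-- same entries (whatever the shape of the lists) -/
def sameEnt (M N : CM9) : Bool := mk3 (ent M) == mk3 (ent N)

theorem ent_mk3 (f : ℕ → ℕ → E9) (i j : Fin 3) : ent (mk3 f) i j = f i j := by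
  fin_cases i <;> fin_cases j <;> rfl

theorem mk3_congr {f g : ℕ → ℕ → E9} (h : ∀ i j : Fin 3, f i j = g i j) : mk3 f = mk3 g := by
  simp only [mk3, row3]
  have h00 := h 0 0; have h01 := h 0 1; have h02 := h 0 2
  have h10 := h 1 0; have h11 := h 1 1; have h12 := h 1 2
  have h20 := h 2 0; have h21 := h 2 1; have h22 := h 2 2
  simp only [Fin.isValue, Fin.val_zero, Fin.val_one, Fin.val_two] at *
  simp [*]

section glue

variable {F : Type*} [Field F]

/-- the embedding of `E3` -/
def iota3 (F : Type*) [Field F] : E3 → F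
  | E3.z => 0
  | E3.o => 1
  | E3.w => 2

theorem iota3_add (h3 : (3 : F) = 0) (x y : E3) : iota3 F (E3.add x y) = iota3 F x + iota3 F y := by
  cases x <;> cases y <;> simp only [E3.add, iota3] <;> first
    | ring1
    | linear_combination (-1 : F) * h3
    | linear_combination h3

theorem iota3_neg (h3 : (3 : F) = 0) (x : E3) : iota3 F (E3.neg x) = - iota3 F x := by
  cases x <;> simp only [E3.neg, iota3] <;> first
    | ring1
    | linear_combination h3
    | linear_combination (-1 : F) * h3

theorem iota3_mul (h3 : (3 : F) = 0) (x y : E3) : iota3 F (E3.mul x y) = iota3 F x * iota3 F y := by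
  cases x <;> cases y <;> simp only [E3.mul, iota3] <;> first
    | ring1
    | linear_combination (-1 : F) * h3
    | linear_combination h3

theorem iota3_injective (h3 : (3 : F) = 0) : Function.Injective (iota3 F) := by
  have h1 : (1 : F) ≠ 0 := one_ne_zero
  have h2 : (2 : F) ≠ 0 := by
    intro h
    apply h1
    linear_combination h3 - h
  have h12 : (1 : F) ≠ 2 := by
    intro h
    apply h1
    linear_combination (-1 : F) * h
  intro x y h
  cases x <;> cases y <;> simp only [iota3] at h <;> first
    | rfl
    | exact absurd h h1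
    | exact absurd h.symm h1
    | exact absurd h h2
    | exact absurd h.symm h2
    | exact absurd h h12
    | exact absurd h.symm h12

/-- squares in the prime field are not `-1` -/
theorem iota3_sq_ne (h3 : (3 : F) = 0) (x : E3) : iota3 F x ^ 2 ≠ -1 := by
  have h1 : (1 : F) ≠ 0 := one_ne_zero
  cases x <;> simp only [iota3] <;> intro h
  · apply h1; linear_combination h
  · apply h1; linear_combination h3 - h
  · apply h1; linear_combination 2 * h3 - h

/-- the embedding of `E9` attached to `θ` -/
def iota (θ : F) (x : E9) : F := iota3 F x.re + iota3 F x.im * θ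

variable {θ : F}

theorem iota_zero : iota θ E9.zero = 0 := by simp [iota, E9.zero, iota3]

theorem iota_one : iota θ E9.one = 1 := by simp [iota, E9.one, iota3]

theorem iota_add (h3 : (3 : F) = 0) (x y : E9) : iota θ (E9.add x y) = iota θ x + iota θ y := by
  simp only [iota, E9.add, iota3_add h3]
  ring

theorem iota_mul (h3 : (3 : F) = 0) (hθ : θ ^ 2 = -1) (x y : E9) :
    iota θ (E9.mul x y) = iota θ x * iota θ y := by
  simp only [iota, E9.mul, iota3_add h3, iota3_mul h3, iota3_neg h3]
  linear_combination (-(iota3 F x.im * iota3 F y.im)) * hθ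

theorem frob_char3 (h3 : (3 : F) = 0) (a b : F) : (a + b) ^ 3 = a ^ 3 + b ^ 3 := by
  linear_combination (a ^ 2 * b + a * b ^ 2) * h3

theorem iota3_cube (h3 : (3 : F) = 0) (x : E3) : iota3 F x ^ 3 = iota3 F x := by
  cases x <;> simp only [iota3]
  · ring1
  · ring1
  · linear_combination 2 * h3

theorem iota_frob (h3 : (3 : F) = 0) (hθ : θ ^ 2 = -1) (x : E9) : iota θ (E9.frob x) = iota θ x ^ 3 := by
  simp only [iota, E9.frob, iota3_neg h3]
  rw [frob_char3 h3, mul_pow, iota3_cube h3, iota3_cube h3]
  have : θ ^ 3 = -θ := by linear_combination θ * hθ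
  rw [this]; ring

theorem iota_injective (h3 : (3 : F) = 0) (hθ : θ ^ 2 = -1) : Function.Injective (iota θ) := by
  intro x y h
  simp only [iota] at h
  have him : x.im = y.im := by
    by_contra hne
    -- then `θ` lies in the prime field
    have hd : iota3 F x.im - iota3 F y.im ≠ 0 := by
      intro h0
      exact hne (iota3_injective h3 (sub_eq_zero.mp h0))
    have hθ' : θ = (iota3 F y.re - iota3 F x.re) / (iota3 F x.im - iota3 F y.im) := by
      field_simp
      linear_combination h
    -- the quotient is again in the image of `iota3`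
    have hquot : ∀ u v : E3, iota3 F v ≠ 0 → ∃ e : E3, iota3 F u / iota3 F v = iota3 F e := by
      intro u v hv
      cases v
      · exact absurd rfl hv
      · exact ⟨u, by simp [iota3]⟩
      · refine ⟨E3.mul u E3.w, ?_⟩
        rw [iota3_mul h3]
        have e2 : iota3 F E3.w = 2 := rfl
        rw [e2]
        have h2 : (2 : F) ≠ 0 := by
          intro h
          have : (1 : F) = 0 := by linear_combination h3 - h
          exact one_ne_zero this
        rw [div_eq_iff h2]
        linear_combination (-(iota3 F u)) * h3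
    have hsub : ∀ u v : E3, iota3 F u - iota3 F v = iota3 F (E3.add u (E3.neg v)) := by
      intro u v
      rw [iota3_add h3, iota3_neg h3]; ring
    rw [hsub] at hd
    rw [hsub, hsub] at hθ'
    obtain ⟨e, he⟩ := hquot _ _ hd
    rw [he] at hθ'
    exact iota3_sq_ne h3 e (by rw [← hθ']; exact hθ)
  have hre : x.re = y.re := by
    rw [him] at h
    exact iota3_injective h3 (add_right_cancel h)
  cases x; cases y
  simp only at him hre
  rw [him, hre]

end glue

end Cfsg.Agent.Lib.Lead.U3
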