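import Mathlib
import Cfsg.Agent.Lib.Lead.U3.E9

/-!
# Project U3, piece EXPLB3 : the 168 matrices of an explicit `L_2(7) < SU_3(3)`. (`lead`, generated)
-/

set_option autoImplicit false
set_option maxRecDepth 100000

namespace Cfsg.Agent.Lib.Lead.U3

open E3

/-- generator of order 3 -/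
def gs : CM9 := [[⟨z, z⟩, ⟨o, w⟩, ⟨w, o⟩], [⟨o, o⟩, ⟨w, z⟩, ⟨w, z⟩], [⟨o, o⟩, ⟨o, z⟩, ⟨o, z⟩]]

/-- generator of order 7 -/
def gt : CM9 := [[⟨o, o⟩, ⟨o, z⟩, ⟨o, z⟩], [⟨w, w⟩, ⟨o, z⟩, ⟨o, z⟩], [⟨z, z⟩, ⟨o, w⟩, ⟨w, o⟩]]

def p0inv : CM9 := [[⟨o, z⟩, ⟨o, z⟩, ⟨w, w⟩], [⟨z, z⟩, ⟨o, w⟩, ⟨o, w⟩], [⟨z, z⟩, ⟨z, z⟩, ⟨o, z⟩]]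

def dwit : CM9 := [[⟨z, z⟩, ⟨z, o⟩, ⟨z, z⟩], [⟨z, z⟩, ⟨z, z⟩, ⟨z, w⟩], [⟨o, z⟩, ⟨z, z⟩, ⟨z, z⟩]]

def tbl : List CM9 := [
  [[⟨o, z⟩, ⟨z, z⟩, ⟨z, z⟩], [⟨z, z⟩, ⟨o, z⟩, ⟨z, z⟩], [⟨z, z⟩, ⟨z, z⟩, ⟨o, z⟩]],
  [[⟨z, z⟩, ⟨o, w⟩, ⟨w, o⟩], [⟨o, o⟩, ⟨w, z⟩, ⟨w, z⟩], [⟨o, o⟩, ⟨o, z⟩, ⟨o, z⟩]],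
  [[⟨o, o⟩, ⟨o, z⟩, ⟨o, z⟩], [⟨w, w⟩, ⟨o, z⟩, ⟨o, z⟩], [⟨z, z⟩, ⟨o, w⟩, ⟨w, o⟩]],
  [[⟨z, z⟩, ⟨o, w⟩, ⟨o, w⟩], [⟨o, o⟩, ⟨w, z⟩, ⟨o, z⟩], [⟨w, w⟩, ⟨w, z⟩, ⟨o, z⟩]],
  [[⟨o, z⟩, ⟨o, o⟩, ⟨o, z⟩], [⟨o, z⟩, ⟨w, w⟩, ⟨o, z⟩], [⟨w, o⟩, ⟨z, z⟩, ⟨o, w⟩]],
  [[⟨w, w⟩, ⟨w, z⟩, ⟨o, z⟩], [⟨w, w⟩, ⟨o, z⟩, ⟨w, z⟩], [⟨z, z⟩, ⟨o, w⟩, ⟨o, w⟩]],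
  [[⟨w, o⟩, ⟨z, z⟩, ⟨o, w⟩], [⟨w, z⟩, ⟨o, o⟩, ⟨w, z⟩], [⟨o, z⟩, ⟨o, o⟩, ⟨o, z⟩]],
  [[⟨o, z⟩, ⟨o, z⟩, ⟨o, o⟩], [⟨o, z⟩, ⟨o, z⟩, ⟨w, w⟩], [⟨o, w⟩, ⟨w, o⟩, ⟨z, z⟩]],
  [[⟨o, z⟩, ⟨o, o⟩, ⟨w, z⟩], [⟨o, w⟩, ⟨z, z⟩, ⟨o, w⟩], [⟨w, z⟩, ⟨o, o⟩, ⟨o, z⟩]],
  [[⟨o, w⟩, ⟨z, z⟩, ⟨o, w⟩], [⟨o, z⟩, ⟨o, o⟩, ⟨w, z⟩], [⟨o, z⟩, ⟨w, w⟩, ⟨w, z⟩]],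
  [[⟨z, z⟩, ⟨z, z⟩, ⟨o, z⟩], [⟨z, z⟩, ⟨w, z⟩, ⟨z, z⟩], [⟨o, z⟩, ⟨z, z⟩, ⟨z, z⟩]],
  [[⟨o, w⟩, ⟨w, o⟩, ⟨z, z⟩], [⟨w, z⟩, ⟨w, z⟩, ⟨o, o⟩], [⟨o, z⟩, ⟨o, z⟩, ⟨o, o⟩]],
  [[⟨w, z⟩, ⟨o, o⟩, ⟨o, z⟩], [⟨w, o⟩, ⟨z, z⟩, ⟨w, o⟩], [⟨o, z⟩, ⟨o, o⟩, ⟨w, z⟩]],
  [[⟨o, z⟩, ⟨w, w⟩, ⟨w, z⟩], [⟨w, z⟩, ⟨w, w⟩, ⟨o, z⟩], [⟨o, w⟩, ⟨z, z⟩, ⟨o, w⟩]],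
  [[⟨o, z⟩, ⟨o, z⟩, ⟨w, w⟩], [⟨o, w⟩, ⟨w, o⟩, ⟨z, z⟩], [⟨o, z⟩, ⟨o, z⟩, ⟨o, o⟩]],
  [[⟨z, z⟩, ⟨o, z⟩, ⟨z, z⟩], [⟨z, z⟩, ⟨z, z⟩, ⟨o, z⟩], [⟨o, z⟩, ⟨z, z⟩, ⟨z, z⟩]],
  [[⟨w, o⟩, ⟨w, o⟩, ⟨z, z⟩], [⟨w, z⟩, ⟨o, z⟩, ⟨o, o⟩], [⟨o, z⟩, ⟨w, z⟩, ⟨o, o⟩]],
  [[⟨o, w⟩, ⟨o, w⟩, ⟨z, z⟩], [⟨w, z⟩, ⟨o, z⟩, ⟨o, o⟩], [⟨w, z⟩, ⟨o, z⟩, ⟨w, w⟩]],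
  [[⟨w, z⟩, ⟨o, z⟩, ⟨o, o⟩], [⟨w, o⟩, ⟨w, o⟩, ⟨z, z⟩], [⟨w, z⟩, ⟨o, z⟩, ⟨w, w⟩]],
  [[⟨w, z⟩, ⟨o, z⟩, ⟨o, o⟩], [⟨o, w⟩, ⟨o, w⟩, ⟨z, z⟩], [⟨o, z⟩, ⟨w, z⟩, ⟨o, o⟩]],
  [[⟨o, z⟩, ⟨o, z⟩, ⟨o, o⟩], [⟨w, o⟩, ⟨o, w⟩, ⟨z, z⟩], [⟨o, z⟩, ⟨o, z⟩, ⟨w, w⟩]],
  [[⟨o, z⟩, ⟨z, z⟩, ⟨z, z⟩], [⟨z, z⟩, ⟨z, z⟩, ⟨w, z⟩], [⟨z, z⟩, ⟨o, z⟩, ⟨z, z⟩]],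
  [[⟨o, z⟩, ⟨w, z⟩, ⟨o, o⟩], [⟨o, z⟩, ⟨w, z⟩, ⟨w, w⟩], [⟨w, o⟩, ⟨w, o⟩, ⟨z, z⟩]],
  [[⟨w, z⟩, ⟨o, z⟩, ⟨w, w⟩], [⟨o, z⟩, ⟨w, z⟩, ⟨w, w⟩], [⟨o, w⟩, ⟨o, w⟩, ⟨z, z⟩]],
  [[⟨w, z⟩, ⟨o, z⟩, ⟨w, w⟩], [⟨o, w⟩, ⟨o, w⟩, ⟨z, z⟩], [⟨w, z⟩, ⟨o, z⟩, ⟨o, o⟩]],
  [[⟨o, z⟩, ⟨w, z⟩, ⟨o, o⟩], [⟨w, o⟩, ⟨w, o⟩, ⟨z, z⟩], [⟨w, z⟩, ⟨o, z⟩, ⟨o, o⟩]],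
  [[⟨o, w⟩, ⟨w, o⟩, ⟨z, z⟩], [⟨o, z⟩, ⟨o, z⟩, ⟨o, o⟩], [⟨o, z⟩, ⟨o, z⟩, ⟨w, w⟩]],
  [[⟨z, z⟩, ⟨z, z⟩, ⟨o, z⟩], [⟨o, z⟩, ⟨z, z⟩, ⟨z, z⟩], [⟨z, z⟩, ⟨o, z⟩, ⟨z, z⟩]],
  [[⟨o, o⟩, ⟨w, z⟩, ⟨w, z⟩], [⟨o, o⟩, ⟨o, z⟩, ⟨o, z⟩], [⟨z, z⟩, ⟨o, w⟩, ⟨w, o⟩]],
  [[⟨w, w⟩, ⟨o, z⟩, ⟨o, z⟩], [⟨z, z⟩, ⟨o, w⟩, ⟨w, o⟩], [⟨o, o⟩, ⟨o, z⟩, ⟨o, z⟩]],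
  [[⟨w, z⟩, ⟨w, w⟩, ⟨w, z⟩], [⟨o, z⟩, ⟨w, w⟩, ⟨o, z⟩], [⟨o, w⟩, ⟨z, z⟩, ⟨w, o⟩]],
  [[⟨z, z⟩, ⟨w, o⟩, ⟨w, o⟩], [⟨o, o⟩, ⟨w, z⟩, ⟨o, z⟩], [⟨o, o⟩, ⟨o, z⟩, ⟨w, z⟩]],
  [[⟨o, z⟩, ⟨w, w⟩, ⟨o, z⟩], [⟨o, z⟩, ⟨o, o⟩, ⟨o, z⟩], [⟨o, w⟩, ⟨z, z⟩, ⟨w, o⟩]],
  [[⟨o, o⟩, ⟨w, z⟩, ⟨o, z⟩], [⟨z, z⟩, ⟨o, w⟩, ⟨o, w⟩], [⟨o, o⟩, ⟨o, z⟩, ⟨w, z⟩]],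
  [[⟨o, z⟩, ⟨w, w⟩, ⟨o, z⟩], [⟨w, z⟩, ⟨w, w⟩, ⟨w, z⟩], [⟨w, o⟩, ⟨z, z⟩, ⟨o, w⟩]],
  [[⟨o, o⟩, ⟨w, z⟩, ⟨o, z⟩], [⟨z, z⟩, ⟨w, o⟩, ⟨w, o⟩], [⟨w, w⟩, ⟨w, z⟩, ⟨o, z⟩]],
  [[⟨o, z⟩, ⟨o, z⟩, ⟨w, w⟩], [⟨w, z⟩, ⟨w, z⟩, ⟨w, w⟩], [⟨o, w⟩, ⟨w, o⟩, ⟨z, z⟩]],
  [[⟨z, z⟩, ⟨o, z⟩, ⟨z, z⟩], [⟨w, z⟩, ⟨z, z⟩, ⟨z, z⟩], [⟨z, z⟩, ⟨z, z⟩, ⟨o, z⟩]],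
  [[⟨z, z⟩, ⟨o, w⟩, ⟨w, o⟩], [⟨w, w⟩, ⟨w, z⟩, ⟨w, z⟩], [⟨o, o⟩, ⟨w, z⟩, ⟨w, z⟩]],
  [[⟨o, o⟩, ⟨o, z⟩, ⟨o, z⟩], [⟨z, z⟩, ⟨w, o⟩, ⟨o, w⟩], [⟨w, w⟩, ⟨o, z⟩, ⟨o, z⟩]],
  [[⟨o, w⟩, ⟨z, z⟩, ⟨w, o⟩], [⟨w, z⟩, ⟨o, o⟩, ⟨w, z⟩], [⟨w, z⟩, ⟨w, w⟩, ⟨w, z⟩]],
  [[⟨o, o⟩, ⟨o, z⟩, ⟨w, z⟩], [⟨w, w⟩, ⟨o, z⟩, ⟨w, z⟩], [⟨z, z⟩, ⟨w, o⟩, ⟨w, o⟩]],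
  [[⟨o, w⟩, ⟨z, z⟩, ⟨w, o⟩], [⟨w, z⟩, ⟨w, w⟩, ⟨w, z⟩], [⟨o, z⟩, ⟨w, w⟩, ⟨o, z⟩]],
  [[⟨o, o⟩, ⟨o, z⟩, ⟨w, z⟩], [⟨z, z⟩, ⟨w, o⟩, ⟨w, o⟩], [⟨o, o⟩, ⟨w, z⟩, ⟨o, z⟩]],
  [[⟨w, o⟩, ⟨z, z⟩, ⟨o, w⟩], [⟨o, z⟩, ⟨o, o⟩, ⟨o, z⟩], [⟨o, z⟩, ⟨w, w⟩, ⟨o, z⟩]],
  [[⟨w, w⟩, ⟨w, z⟩, ⟨o, z⟩], [⟨z, z⟩, ⟨o, w⟩, ⟨o, w⟩], [⟨o, o⟩, ⟨w, z⟩, ⟨o, z⟩]],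
  [[⟨o, o⟩, ⟨o, z⟩, ⟨o, z⟩], [⟨z, z⟩, ⟨o, w⟩, ⟨w, o⟩], [⟨o, o⟩, ⟨w, z⟩, ⟨w, z⟩]],
  [[⟨z, z⟩, ⟨o, w⟩, ⟨w, o⟩], [⟨o, o⟩, ⟨o, z⟩, ⟨o, z⟩], [⟨w, w⟩, ⟨o, z⟩, ⟨o, z⟩]],
  [[⟨o, o⟩, ⟨w, z⟩, ⟨o, z⟩], [⟨w, w⟩, ⟨w, z⟩, ⟨o, z⟩], [⟨z, z⟩, ⟨o, w⟩, ⟨o, w⟩]],
  [[⟨o, z⟩, ⟨w, w⟩, ⟨o, z⟩], [⟨w, o⟩, ⟨z, z⟩, ⟨o, w⟩], [⟨o, z⟩, ⟨o, o⟩, ⟨o, z⟩]],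
  [[⟨w, w⟩, ⟨o, z⟩, ⟨w, z⟩], [⟨z, z⟩, ⟨o, w⟩, ⟨o, w⟩], [⟨w, w⟩, ⟨w, z⟩, ⟨o, z⟩]],
  [[⟨w, z⟩, ⟨o, o⟩, ⟨w, z⟩], [⟨o, z⟩, ⟨o, o⟩, ⟨o, z⟩], [⟨w, o⟩, ⟨z, z⟩, ⟨o, w⟩]],
  [[⟨w, z⟩, ⟨w, w⟩, ⟨o, z⟩], [⟨o, w⟩, ⟨z, z⟩, ⟨o, w⟩], [⟨o, z⟩, ⟨w, w⟩, ⟨w, z⟩]],
  [[⟨w, o⟩, ⟨z, z⟩, ⟨w, o⟩], [⟨o, z⟩, ⟨o, o⟩, ⟨w, z⟩], [⟨w, z⟩, ⟨o, o⟩, ⟨o, z⟩]],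
  [[⟨w, z⟩, ⟨z, z⟩, ⟨z, z⟩], [⟨z, z⟩, ⟨o, z⟩, ⟨z, z⟩], [⟨z, z⟩, ⟨z, z⟩, ⟨w, z⟩]],
  [[⟨w, z⟩, ⟨w, z⟩, ⟨w, w⟩], [⟨o, z⟩, ⟨o, z⟩, ⟨w, w⟩], [⟨w, o⟩, ⟨o, w⟩, ⟨z, z⟩]],
  [[⟨z, z⟩, ⟨o, z⟩, ⟨z, z⟩], [⟨o, z⟩, ⟨z, z⟩, ⟨z, z⟩], [⟨z, z⟩, ⟨z, z⟩, ⟨w, z⟩]],
  [[⟨o, z⟩, ⟨o, z⟩, ⟨w, w⟩], [⟨o, z⟩, ⟨o, z⟩, ⟨o, o⟩], [⟨w, o⟩, ⟨o, w⟩, ⟨z, z⟩]],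
  [[⟨o, w⟩, ⟨z, z⟩, ⟨o, w⟩], [⟨w, z⟩, ⟨w, w⟩, ⟨o, z⟩], [⟨w, z⟩, ⟨o, o⟩, ⟨o, z⟩]],
  [[⟨o, z⟩, ⟨o, o⟩, ⟨w, z⟩], [⟨w, o⟩, ⟨z, z⟩, ⟨w, o⟩], [⟨o, z⟩, ⟨w, w⟩, ⟨w, z⟩]],
  [[⟨o, o⟩, ⟨w, z⟩, ⟨w, z⟩], [⟨z, z⟩, ⟨w, o⟩, ⟨o, w⟩], [⟨o, o⟩, ⟨o, z⟩, ⟨o, z⟩]],
  [[⟨w, w⟩, ⟨o, z⟩, ⟨o, z⟩], [⟨w, w⟩, ⟨w, z⟩, ⟨w, z⟩], [⟨z, z⟩, ⟨o, w⟩, ⟨w, o⟩]],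
  [[⟨z, z⟩, ⟨o, w⟩, ⟨o, w⟩], [⟨o, o⟩, ⟨o, z⟩, ⟨w, z⟩], [⟨o, o⟩, ⟨w, z⟩, ⟨o, z⟩]],
  [[⟨o, z⟩, ⟨o, o⟩, ⟨o, z⟩], [⟨o, w⟩, ⟨z, z⟩, ⟨w, o⟩], [⟨o, z⟩, ⟨w, w⟩, ⟨o, z⟩]],
  [[⟨w, w⟩, ⟨w, z⟩, ⟨o, z⟩], [⟨z, z⟩, ⟨w, o⟩, ⟨w, o⟩], [⟨w, w⟩, ⟨o, z⟩, ⟨w, z⟩]],
  [[⟨w, o⟩, ⟨z, z⟩, ⟨o, w⟩], [⟨w, z⟩, ⟨w, w⟩, ⟨w, z⟩], [⟨w, z⟩, ⟨o, o⟩, ⟨w, z⟩]],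
  [[⟨o, z⟩, ⟨w, w⟩, ⟨w, z⟩], [⟨w, o⟩, ⟨z, z⟩, ⟨w, o⟩], [⟨w, z⟩, ⟨w, w⟩, ⟨o, z⟩]],
  [[⟨w, z⟩, ⟨o, o⟩, ⟨o, z⟩], [⟨w, z⟩, ⟨w, w⟩, ⟨o, z⟩], [⟨w, o⟩, ⟨z, z⟩, ⟨w, o⟩]],
  [[⟨z, z⟩, ⟨z, z⟩, ⟨w, z⟩], [⟨z, z⟩, ⟨w, z⟩, ⟨z, z⟩], [⟨w, z⟩, ⟨z, z⟩, ⟨z, z⟩]],
  [[⟨w, o⟩, ⟨o, w⟩, ⟨z, z⟩], [⟨w, z⟩, ⟨w, z⟩, ⟨o, o⟩], [⟨w, z⟩, ⟨w, z⟩, ⟨w, w⟩]],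
  [[⟨z, z⟩, ⟨z, z⟩, ⟨w, z⟩], [⟨w, z⟩, ⟨z, z⟩, ⟨z, z⟩], [⟨z, z⟩, ⟨o, z⟩, ⟨z, z⟩]],
  [[⟨w, o⟩, ⟨o, w⟩, ⟨z, z⟩], [⟨w, z⟩, ⟨w, z⟩, ⟨w, w⟩], [⟨o, z⟩, ⟨o, z⟩, ⟨w, w⟩]],
  [[⟨w, z⟩, ⟨o, o⟩, ⟨o, z⟩], [⟨o, z⟩, ⟨o, o⟩, ⟨w, z⟩], [⟨o, w⟩, ⟨z, z⟩, ⟨o, w⟩]],
  [[⟨o, z⟩, ⟨w, w⟩, ⟨w, z⟩], [⟨o, w⟩, ⟨z, z⟩, ⟨o, w⟩], [⟨o, z⟩, ⟨o, o⟩, ⟨w, z⟩]],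
  [[⟨z, z⟩, ⟨o, w⟩, ⟨o, w⟩], [⟨w, w⟩, ⟨w, z⟩, ⟨o, z⟩], [⟨w, w⟩, ⟨o, z⟩, ⟨w, z⟩]],
  [[⟨o, z⟩, ⟨o, o⟩, ⟨o, z⟩], [⟨w, o⟩, ⟨z, z⟩, ⟨o, w⟩], [⟨w, z⟩, ⟨o, o⟩, ⟨w, z⟩]],
  [[⟨o, w⟩, ⟨z, z⟩, ⟨o, w⟩], [⟨w, z⟩, ⟨o, o⟩, ⟨o, z⟩], [⟨o, z⟩, ⟨o, o⟩, ⟨w, z⟩]],
  [[⟨o, z⟩, ⟨o, o⟩, ⟨w, z⟩], [⟨o, z⟩, ⟨w, w⟩, ⟨w, z⟩], [⟨o, w⟩, ⟨z, z⟩, ⟨o, w⟩]],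
  [[⟨z, z⟩, ⟨w, z⟩, ⟨z, z⟩], [⟨o, z⟩, ⟨z, z⟩, ⟨z, z⟩], [⟨z, z⟩, ⟨z, z⟩, ⟨o, z⟩]],
  [[⟨w, z⟩, ⟨w, z⟩, ⟨o, o⟩], [⟨o, z⟩, ⟨o, z⟩, ⟨o, o⟩], [⟨o, w⟩, ⟨w, o⟩, ⟨z, z⟩]],
  [[⟨o, z⟩, ⟨w, z⟩, ⟨w, w⟩], [⟨w, o⟩, ⟨w, o⟩, ⟨z, z⟩], [⟨o, z⟩, ⟨w, z⟩, ⟨o, o⟩]],
  [[⟨o, z⟩, ⟨w, z⟩, ⟨w, w⟩], [⟨o, w⟩, ⟨o, w⟩, ⟨z, z⟩], [⟨w, z⟩, ⟨o, z⟩, ⟨w, w⟩]],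
  [[⟨z, z⟩, ⟨w, o⟩, ⟨o, w⟩], [⟨o, o⟩, ⟨w, z⟩, ⟨w, z⟩], [⟨w, w⟩, ⟨w, z⟩, ⟨w, z⟩]],
  [[⟨w, w⟩, ⟨w, z⟩, ⟨w, z⟩], [⟨w, w⟩, ⟨o, z⟩, ⟨o, z⟩], [⟨z, z⟩, ⟨w, o⟩, ⟨o, w⟩]],
  [[⟨w, z⟩, ⟨w, z⟩, ⟨o, o⟩], [⟨o, w⟩, ⟨w, o⟩, ⟨z, z⟩], [⟨w, z⟩, ⟨w, z⟩, ⟨w, w⟩]],
  [[⟨z, z⟩, ⟨w, z⟩, ⟨z, z⟩], [⟨z, z⟩, ⟨z, z⟩, ⟨o, z⟩], [⟨w, z⟩, ⟨z, z⟩, ⟨z, z⟩]],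
  [[⟨o, o⟩, ⟨w, z⟩, ⟨w, z⟩], [⟨z, z⟩, ⟨o, w⟩, ⟨w, o⟩], [⟨w, w⟩, ⟨w, z⟩, ⟨w, z⟩]],
  [[⟨w, w⟩, ⟨o, z⟩, ⟨o, z⟩], [⟨o, o⟩, ⟨o, z⟩, ⟨o, z⟩], [⟨z, z⟩, ⟨w, o⟩, ⟨o, w⟩]],
  [[⟨o, w⟩, ⟨w, o⟩, ⟨z, z⟩], [⟨o, z⟩, ⟨o, z⟩, ⟨w, w⟩], [⟨w, z⟩, ⟨w, z⟩, ⟨w, w⟩]],
  [[⟨z, z⟩, ⟨z, z⟩, ⟨o, z⟩], [⟨z, z⟩, ⟨o, z⟩, ⟨z, z⟩], [⟨w, z⟩, ⟨z, z⟩, ⟨z, z⟩]],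
  [[⟨w, o⟩, ⟨w, o⟩, ⟨z, z⟩], [⟨o, z⟩, ⟨w, z⟩, ⟨w, w⟩], [⟨w, z⟩, ⟨o, z⟩, ⟨w, w⟩]],
  [[⟨o, w⟩, ⟨o, w⟩, ⟨z, z⟩], [⟨o, z⟩, ⟨w, z⟩, ⟨w, w⟩], [⟨o, z⟩, ⟨w, z⟩, ⟨o, o⟩]],
  [[⟨w, w⟩, ⟨o, z⟩, ⟨w, z⟩], [⟨o, o⟩, ⟨o, z⟩, ⟨w, z⟩], [⟨z, z⟩, ⟨o, w⟩, ⟨o, w⟩]],
  [[⟨w, z⟩, ⟨o, o⟩, ⟨w, z⟩], [⟨o, w⟩, ⟨z, z⟩, ⟨w, o⟩], [⟨o, z⟩, ⟨o, o⟩, ⟨o, z⟩]],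
  [[⟨z, z⟩, ⟨z, z⟩, ⟨o, z⟩], [⟨w, z⟩, ⟨z, z⟩, ⟨z, z⟩], [⟨z, z⟩, ⟨w, z⟩, ⟨z, z⟩]],
  [[⟨o, w⟩, ⟨w, o⟩, ⟨z, z⟩], [⟨w, z⟩, ⟨w, z⟩, ⟨w, w⟩], [⟨w, z⟩, ⟨w, z⟩, ⟨o, o⟩]],
  [[⟨o, z⟩, ⟨w, z⟩, ⟨o, o⟩], [⟨o, w⟩, ⟨o, w⟩, ⟨z, z⟩], [⟨o, z⟩, ⟨w, z⟩, ⟨w, w⟩]],
  [[⟨w, z⟩, ⟨o, z⟩, ⟨w, w⟩], [⟨w, o⟩, ⟨w, o⟩, ⟨z, z⟩], [⟨o, z⟩, ⟨w, z⟩, ⟨w, w⟩]],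
  [[⟨w, z⟩, ⟨w, z⟩, ⟨w, w⟩], [⟨w, o⟩, ⟨o, w⟩, ⟨z, z⟩], [⟨w, z⟩, ⟨w, z⟩, ⟨o, o⟩]],
  [[⟨w, z⟩, ⟨z, z⟩, ⟨z, z⟩], [⟨z, z⟩, ⟨z, z⟩, ⟨w, z⟩], [⟨z, z⟩, ⟨w, z⟩, ⟨z, z⟩]],
  [[⟨w, w⟩, ⟨w, z⟩, ⟨w, z⟩], [⟨z, z⟩, ⟨w, o⟩, ⟨o, w⟩], [⟨o, o⟩, ⟨w, z⟩, ⟨w, z⟩]],
  [[⟨z, z⟩, ⟨w, o⟩, ⟨o, w⟩], [⟨w, w⟩, ⟨w, z⟩, ⟨w, z⟩], [⟨w, w⟩, ⟨o, z⟩, ⟨o, z⟩]],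
  [[⟨w, z⟩, ⟨w, z⟩, ⟨w, w⟩], [⟨w, z⟩, ⟨w, z⟩, ⟨o, o⟩], [⟨o, w⟩, ⟨w, o⟩, ⟨z, z⟩]],
  [[⟨w, z⟩, ⟨z, z⟩, ⟨z, z⟩], [⟨z, z⟩, ⟨w, z⟩, ⟨z, z⟩], [⟨z, z⟩, ⟨z, z⟩, ⟨o, z⟩]],
  [[⟨w, z⟩, ⟨o, z⟩, ⟨w, w⟩], [⟨w, z⟩, ⟨o, z⟩, ⟨o, o⟩], [⟨w, o⟩, ⟨w, o⟩, ⟨z, z⟩]],
  [[⟨o, z⟩, ⟨w, z⟩, ⟨o, o⟩], [⟨w, z⟩, ⟨o, z⟩, ⟨o, o⟩], [⟨o, w⟩, ⟨o, w⟩, ⟨z, z⟩]],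
  [[⟨o, z⟩, ⟨z, z⟩, ⟨z, z⟩], [⟨z, z⟩, ⟨z, z⟩, ⟨o, z⟩], [⟨z, z⟩, ⟨w, z⟩, ⟨z, z⟩]],
  [[⟨o, z⟩, ⟨o, z⟩, ⟨o, o⟩], [⟨o, w⟩, ⟨w, o⟩, ⟨z, z⟩], [⟨w, z⟩, ⟨w, z⟩, ⟨o, o⟩]],
  [[⟨o, z⟩, ⟨o, o⟩, ⟨w, z⟩], [⟨w, z⟩, ⟨o, o⟩, ⟨o, z⟩], [⟨w, o⟩, ⟨z, z⟩, ⟨w, o⟩]],
  [[⟨o, w⟩, ⟨z, z⟩, ⟨o, w⟩], [⟨o, z⟩, ⟨w, w⟩, ⟨w, z⟩], [⟨w, z⟩, ⟨w, w⟩, ⟨o, z⟩]],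
  [[⟨w, z⟩, ⟨o, z⟩, ⟨o, o⟩], [⟨o, z⟩, ⟨w, z⟩, ⟨o, o⟩], [⟨w, o⟩, ⟨w, o⟩, ⟨z, z⟩]],
  [[⟨w, z⟩, ⟨o, z⟩, ⟨o, o⟩], [⟨w, z⟩, ⟨o, z⟩, ⟨w, w⟩], [⟨o, w⟩, ⟨o, w⟩, ⟨z, z⟩]],
  [[⟨w, o⟩, ⟨w, o⟩, ⟨z, z⟩], [⟨w, z⟩, ⟨o, z⟩, ⟨w, w⟩], [⟨w, z⟩, ⟨o, z⟩, ⟨o, o⟩]],
  [[⟨o, w⟩, ⟨o, w⟩, ⟨z, z⟩], [⟨o, z⟩, ⟨w, z⟩, ⟨o, o⟩], [⟨w, z⟩, ⟨o, z⟩, ⟨o, o⟩]],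
  [[⟨w, o⟩, ⟨o, w⟩, ⟨z, z⟩], [⟨o, z⟩, ⟨o, z⟩, ⟨w, w⟩], [⟨o, z⟩, ⟨o, z⟩, ⟨o, o⟩]],
  [[⟨z, z⟩, ⟨z, z⟩, ⟨w, z⟩], [⟨z, z⟩, ⟨o, z⟩, ⟨z, z⟩], [⟨o, z⟩, ⟨z, z⟩, ⟨z, z⟩]],
  [[⟨w, z⟩, ⟨o, o⟩, ⟨w, z⟩], [⟨w, z⟩, ⟨w, w⟩, ⟨w, z⟩], [⟨o, w⟩, ⟨z, z⟩, ⟨w, o⟩]],
  [[⟨w, w⟩, ⟨o, z⟩, ⟨w, z⟩], [⟨z, z⟩, ⟨w, o⟩, ⟨w, o⟩], [⟨o, o⟩, ⟨o, z⟩, ⟨w, z⟩]],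
  [[⟨w, o⟩, ⟨o, w⟩, ⟨z, z⟩], [⟨o, z⟩, ⟨o, z⟩, ⟨o, o⟩], [⟨w, z⟩, ⟨w, z⟩, ⟨o, o⟩]],
  [[⟨z, z⟩, ⟨z, z⟩, ⟨w, z⟩], [⟨o, z⟩, ⟨z, z⟩, ⟨z, z⟩], [⟨z, z⟩, ⟨w, z⟩, ⟨z, z⟩]],
  [[⟨w, w⟩, ⟨o, z⟩, ⟨w, z⟩], [⟨w, w⟩, ⟨w, z⟩, ⟨o, z⟩], [⟨z, z⟩, ⟨w, o⟩, ⟨w, o⟩]],
  [[⟨w, z⟩, ⟨o, o⟩, ⟨w, z⟩], [⟨w, o⟩, ⟨z, z⟩, ⟨o, w⟩], [⟨w, z⟩, ⟨w, w⟩, ⟨w, z⟩]],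
  [[⟨o, o⟩, ⟨o, z⟩, ⟨o, z⟩], [⟨o, o⟩, ⟨w, z⟩, ⟨w, z⟩], [⟨z, z⟩, ⟨w, o⟩, ⟨o, w⟩]],
  [[⟨z, z⟩, ⟨o, w⟩, ⟨w, o⟩], [⟨w, w⟩, ⟨o, z⟩, ⟨o, z⟩], [⟨w, w⟩, ⟨w, z⟩, ⟨w, z⟩]],
  [[⟨o, z⟩, ⟨o, o⟩, ⟨o, z⟩], [⟨w, z⟩, ⟨o, o⟩, ⟨w, z⟩], [⟨o, w⟩, ⟨z, z⟩, ⟨w, o⟩]],
  [[⟨z, z⟩, ⟨o, w⟩, ⟨o, w⟩], [⟨w, w⟩, ⟨o, z⟩, ⟨w, z⟩], [⟨o, o⟩, ⟨o, z⟩, ⟨w, z⟩]],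
  [[⟨w, z⟩, ⟨w, w⟩, ⟨w, z⟩], [⟨w, z⟩, ⟨o, o⟩, ⟨w, z⟩], [⟨w, o⟩, ⟨z, z⟩, ⟨o, w⟩]],
  [[⟨z, z⟩, ⟨w, o⟩, ⟨w, o⟩], [⟨w, w⟩, ⟨o, z⟩, ⟨w, z⟩], [⟨w, w⟩, ⟨w, z⟩, ⟨o, z⟩]],
  [[⟨z, z⟩, ⟨w, z⟩, ⟨z, z⟩], [⟨z, z⟩, ⟨z, z⟩, ⟨w, z⟩], [⟨o, z⟩, ⟨z, z⟩, ⟨z, z⟩]],
  [[⟨w, z⟩, ⟨w, z⟩, ⟨o, o⟩], [⟨w, o⟩, ⟨o, w⟩, ⟨z, z⟩], [⟨o, z⟩, ⟨o, z⟩, ⟨o, o⟩]],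
  [[⟨w, o⟩, ⟨z, z⟩, ⟨w, o⟩], [⟨o, z⟩, ⟨w, w⟩, ⟨w, z⟩], [⟨o, z⟩, ⟨o, o⟩, ⟨w, z⟩]],
  [[⟨w, z⟩, ⟨w, w⟩, ⟨o, z⟩], [⟨w, z⟩, ⟨o, o⟩, ⟨o, z⟩], [⟨o, w⟩, ⟨z, z⟩, ⟨o, w⟩]],
  [[⟨o, z⟩, ⟨o, z⟩, ⟨o, o⟩], [⟨w, z⟩, ⟨w, z⟩, ⟨o, o⟩], [⟨w, o⟩, ⟨o, w⟩, ⟨z, z⟩]],
  [[⟨o, z⟩, ⟨z, z⟩, ⟨z, z⟩], [⟨z, z⟩, ⟨w, z⟩, ⟨z, z⟩], [⟨z, z⟩, ⟨z, z⟩, ⟨w, z⟩]],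
  [[⟨o, w⟩, ⟨z, z⟩, ⟨w, o⟩], [⟨o, z⟩, ⟨o, o⟩, ⟨o, z⟩], [⟨w, z⟩, ⟨o, o⟩, ⟨w, z⟩]],
  [[⟨o, o⟩, ⟨o, z⟩, ⟨w, z⟩], [⟨z, z⟩, ⟨o, w⟩, ⟨o, w⟩], [⟨w, w⟩, ⟨o, z⟩, ⟨w, z⟩]],
  [[⟨w, z⟩, ⟨w, z⟩, ⟨o, o⟩], [⟨w, z⟩, ⟨w, z⟩, ⟨w, w⟩], [⟨w, o⟩, ⟨o, w⟩, ⟨z, z⟩]],
  [[⟨z, z⟩, ⟨w, z⟩, ⟨z, z⟩], [⟨w, z⟩, ⟨z, z⟩, ⟨z, z⟩], [⟨z, z⟩, ⟨z, z⟩, ⟨w, z⟩]],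
  [[⟨z, z⟩, ⟨w, o⟩, ⟨w, o⟩], [⟨o, o⟩, ⟨o, z⟩, ⟨w, z⟩], [⟨w, w⟩, ⟨o, z⟩, ⟨w, z⟩]],
  [[⟨w, z⟩, ⟨w, w⟩, ⟨w, z⟩], [⟨o, w⟩, ⟨z, z⟩, ⟨w, o⟩], [⟨w, z⟩, ⟨o, o⟩, ⟨w, z⟩]],
  [[⟨z, z⟩, ⟨w, o⟩, ⟨o, w⟩], [⟨w, w⟩, ⟨o, z⟩, ⟨o, z⟩], [⟨o, o⟩, ⟨o, z⟩, ⟨o, z⟩]],
  [[⟨w, w⟩, ⟨w, z⟩, ⟨w, z⟩], [⟨o, o⟩, ⟨w, z⟩, ⟨w, z⟩], [⟨z, z⟩, ⟨o, w⟩, ⟨w, o⟩]],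
  [[⟨o, w⟩, ⟨z, z⟩, ⟨w, o⟩], [⟨o, z⟩, ⟨w, w⟩, ⟨o, z⟩], [⟨o, z⟩, ⟨o, o⟩, ⟨o, z⟩]],
  [[⟨o, o⟩, ⟨o, z⟩, ⟨w, z⟩], [⟨o, o⟩, ⟨w, z⟩, ⟨o, z⟩], [⟨z, z⟩, ⟨o, w⟩, ⟨o, w⟩]],
  [[⟨w, o⟩, ⟨z, z⟩, ⟨o, w⟩], [⟨o, z⟩, ⟨w, w⟩, ⟨o, z⟩], [⟨w, z⟩, ⟨w, w⟩, ⟨w, z⟩]],
  [[⟨w, w⟩, ⟨w, z⟩, ⟨o, z⟩], [⟨o, o⟩, ⟨w, z⟩, ⟨o, z⟩], [⟨z, z⟩, ⟨w, o⟩, ⟨w, o⟩]],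
  [[⟨w, o⟩, ⟨w, o⟩, ⟨z, z⟩], [⟨o, z⟩, ⟨w, z⟩, ⟨o, o⟩], [⟨o, z⟩, ⟨w, z⟩, ⟨w, w⟩]],
  [[⟨o, w⟩, ⟨o, w⟩, ⟨z, z⟩], [⟨w, z⟩, ⟨o, z⟩, ⟨w, w⟩], [⟨o, z⟩, ⟨w, z⟩, ⟨w, w⟩]],
  [[⟨o, z⟩, ⟨w, w⟩, ⟨o, z⟩], [⟨o, w⟩, ⟨z, z⟩, ⟨w, o⟩], [⟨w, z⟩, ⟨w, w⟩, ⟨w, z⟩]],
  [[⟨o, o⟩, ⟨w, z⟩, ⟨o, z⟩], [⟨o, o⟩, ⟨o, z⟩, ⟨w, z⟩], [⟨z, z⟩, ⟨w, o⟩, ⟨w, o⟩]],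
  [[⟨w, z⟩, ⟨w, w⟩, ⟨w, z⟩], [⟨w, o⟩, ⟨z, z⟩, ⟨o, w⟩], [⟨o, z⟩, ⟨w, w⟩, ⟨o, z⟩]],
  [[⟨z, z⟩, ⟨w, o⟩, ⟨w, o⟩], [⟨w, w⟩, ⟨w, z⟩, ⟨o, z⟩], [⟨o, o⟩, ⟨w, z⟩, ⟨o, z⟩]],
  [[⟨w, z⟩, ⟨w, z⟩, ⟨w, w⟩], [⟨o, w⟩, ⟨w, o⟩, ⟨z, z⟩], [⟨o, z⟩, ⟨o, z⟩, ⟨w, w⟩]],
  [[⟨w, z⟩, ⟨z, z⟩, ⟨z, z⟩], [⟨z, z⟩, ⟨z, z⟩, ⟨o, z⟩], [⟨z, z⟩, ⟨o, z⟩, ⟨z, z⟩]],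
  [[⟨w, o⟩, ⟨z, z⟩, ⟨w, o⟩], [⟨w, z⟩, ⟨w, w⟩, ⟨o, z⟩], [⟨o, z⟩, ⟨w, w⟩, ⟨w, z⟩]],
  [[⟨w, z⟩, ⟨w, w⟩, ⟨o, z⟩], [⟨w, o⟩, ⟨z, z⟩, ⟨w, o⟩], [⟨w, z⟩, ⟨o, o⟩, ⟨o, z⟩]],
  [[⟨w, w⟩, ⟨w, z⟩, ⟨w, z⟩], [⟨z, z⟩, ⟨o, w⟩, ⟨w, o⟩], [⟨w, w⟩, ⟨o, z⟩, ⟨o, z⟩]],
  [[⟨z, z⟩, ⟨w, o⟩, ⟨o, w⟩], [⟨o, o⟩, ⟨o, z⟩, ⟨o, z⟩], [⟨o, o⟩, ⟨w, z⟩, ⟨w, z⟩]],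
  [[⟨w, o⟩, ⟨z, z⟩, ⟨w, o⟩], [⟨w, z⟩, ⟨o, o⟩, ⟨o, z⟩], [⟨w, z⟩, ⟨w, w⟩, ⟨o, z⟩]],
  [[⟨w, z⟩, ⟨w, w⟩, ⟨o, z⟩], [⟨o, z⟩, ⟨w, w⟩, ⟨w, z⟩], [⟨w, o⟩, ⟨z, z⟩, ⟨w, o⟩]],
  [[⟨o, z⟩, ⟨w, z⟩, ⟨w, w⟩], [⟨w, z⟩, ⟨o, z⟩, ⟨w, w⟩], [⟨w, o⟩, ⟨w, o⟩, ⟨z, z⟩]],
  [[⟨o, z⟩, ⟨w, z⟩, ⟨w, w⟩], [⟨o, z⟩, ⟨w, z⟩, ⟨o, o⟩], [⟨o, w⟩, ⟨o, w⟩, ⟨z, z⟩]],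
  [[⟨o, z⟩, ⟨o, z⟩, ⟨w, w⟩], [⟨w, o⟩, ⟨o, w⟩, ⟨z, z⟩], [⟨w, z⟩, ⟨w, z⟩, ⟨w, w⟩]],
  [[⟨z, z⟩, ⟨o, z⟩, ⟨z, z⟩], [⟨z, z⟩, ⟨z, z⟩, ⟨w, z⟩], [⟨w, z⟩, ⟨z, z⟩, ⟨z, z⟩]],
  [[⟨o, z⟩, ⟨w, w⟩, ⟨w, z⟩], [⟨o, z⟩, ⟨o, o⟩, ⟨w, z⟩], [⟨w, o⟩, ⟨z, z⟩, ⟨w, o⟩]],
  [[⟨w, z⟩, ⟨o, o⟩, ⟨o, z⟩], [⟨o, w⟩, ⟨z, z⟩, ⟨o, w⟩], [⟨w, z⟩, ⟨w, w⟩, ⟨o, z⟩]],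
  [[⟨w, w⟩, ⟨o, z⟩, ⟨o, z⟩], [⟨z, z⟩, ⟨w, o⟩, ⟨o, w⟩], [⟨w, w⟩, ⟨w, z⟩, ⟨w, z⟩]],
  [[⟨o, o⟩, ⟨w, z⟩, ⟨w, z⟩], [⟨w, w⟩, ⟨w, z⟩, ⟨w, z⟩], [⟨z, z⟩, ⟨w, o⟩, ⟨o, w⟩]]]

def idxS : List ℕ := [1, 3, 5, 0, 8, 10, 12, 14, 16, 18, 2, 20, 22, 24, 26, 28, 4, 30, 32, 34, 36, 38, 6, 40, 42, 44, 7, 46, 48, 50, 52, 54, 9, 56, 58, 37, 11, 60, 62, 64, 66, 68, 13, 70, 72, 27, 45, 74, 15, 76, 78, 53, 17, 80, 82, 84, 86, 88, 19, 90, 35, 92, 21, 77, 94, 67, 23, 96, 83, 98, 100, 102, 25, 104, 106, 108, 110, 112, 29, 114, 51, 116, 31, 41, 118, 87, 33, 120,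 107, 122, 124, 126, 128, 130, 39, 132, 65, 134, 136, 101, 43, 138, 129, 140, 142, 144, 47, 57, 146, 111, 49, 148, 63, 150, 152, 141, 154, 137, 55, 156, 85, 158, 145, 125, 59, 133, 155, 103, 61, 71, 160, 113, 162, 123, 164, 119, 69, 166, 99, 159, 127, 143, 73, 115, 165, 89, 75, 139, 109, 163, 131, 153, 79, 157, 81, 91, 135, 151, 161, 147, 93, 121, 95, 167, 97, 105, 117, 149]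

def idxT : List ℕ := [2, 4, 6, 7, 9, 11, 13, 15, 17, 19, 1, 21, 23, 25, 27, 29, 3, 31, 33, 35, 37, 39, 5, 41, 43, 45, 0, 47, 49, 51, 53, 55, 8, 57, 59, 36, 10, 61, 63, 65, 67, 69, 12, 71, 73, 26, 44, 75, 14, 77, 79, 52, 16, 81, 83, 85, 87, 89, 18, 91, 34, 93, 20, 76, 95, 66, 22, 97, 82, 99, 101, 103, 24, 105, 107, 109, 111, 113, 28, 115, 50, 117, 30, 40, 119, 86, 32, 121, 106, 123, 125, 127, 129, 131, 38, 133, 64, 135, 137, 100, 42, 139, 128, 141, 143, 145, 46, 56, 147, 110, 48, 149, 62, 151, 153, 140, 155, 136, 54, 157, 84, 159, 144,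 124, 58, 132, 154, 102, 60, 70, 161, 112, 163, 122, 165, 118, 68, 167, 98, 158, 126, 142, 72, 114, 164, 88, 74, 138, 108, 162, 130, 152, 78, 156, 80, 90, 134, 150, 160, 146, 92, 120, 94, 166, 96, 104, 116, 148]

def parI : List ℕ := [0, 0, 0, 1, 1, 2, 2, 3, 4, 4, 5, 5, 6, 6, 7, 7, 8, 8, 9, 9, 11, 11, 12, 12, 13, 13, 14, 14, 15, 15, 17, 17, 18, 18, 19, 19, 20, 20, 21, 21, 23, 23, 24, 24, 25, 25, 27, 27, 28, 28, 29, 29, 30, 30, 31, 31, 33, 33, 34, 34, 37, 37, 38, 38, 39, 39, 40, 40, 41, 41, 43, 43, 44, 44, 47, 47, 49, 49, 50, 50, 53, 53,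 54, 54, 55, 55, 56, 56, 57, 57, 59, 59, 61, 61, 64, 64, 67, 67, 69, 69, 70, 70, 71, 71, 73, 73, 74, 74, 75, 75, 76, 76, 77, 77, 79, 79, 81, 81, 84, 84, 87, 87, 89, 89, 90, 90, 91, 91, 92, 92, 93, 93, 95, 95, 97, 97, 98, 98, 101, 101, 103, 103, 104, 104, 105, 105, 108, 108, 111, 111, 113, 113, 114, 114, 116, 116, 119, 119, 121, 121, 130, 130, 132, 132, 134, 134, 137, 137]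

def parS : List Bool := [true, true, false, true, false, true, false, false, true, false, true, false, true, false, true, false, true, false, true, false, true, false, true, false, true, false, true, false, true, false, true, false, true, false, true, false, true, false, true, false, true, false, true, false, true, false, true, false, true, false, true, false, true, false, true, false, true, false, true, false, true, false, true, false, true, false, true, false, true, false, true, false, true, false, true, false, true, false, true,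 false, true, false, true, false, true, false, true, false, true, false, true, false, true, false, true, false, true, false, true, false, true, false, true, false, true, false, true, false, true, false, true, false, true, false, true, false, true, false, true, false, true, false, true, false, true, false, true, false, true, false, true, false, true, false, true, false, true, false, true, false, true, false, true, false, true, false, true, false, true, false, true, false, true, false, true, false, true, false, true, false, true, false,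 true, false, true, false, true, false]

def tpows : List CM9 := [
  [[⟨o, z⟩, ⟨z, z⟩, ⟨z, z⟩], [⟨z, z⟩, ⟨o, z⟩, ⟨z, z⟩], [⟨z, z⟩, ⟨z, z⟩, ⟨o, z⟩]],
  [[⟨o, o⟩, ⟨o, z⟩, ⟨o, z⟩], [⟨w, w⟩, ⟨o, z⟩, ⟨o, z⟩], [⟨z, z⟩, ⟨o, w⟩, ⟨w, o⟩]],
  [[⟨w, o⟩, ⟨z, z⟩, ⟨o, w⟩], [⟨w, z⟩, ⟨o, o⟩, ⟨w, z⟩], [⟨o, z⟩, ⟨o, o⟩, ⟨o, z⟩]],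
  [[⟨o, z⟩, ⟨w, w⟩, ⟨w, z⟩], [⟨w, z⟩, ⟨w, w⟩, ⟨o, z⟩], [⟨o, w⟩, ⟨z, z⟩, ⟨o, w⟩]],
  [[⟨o, z⟩, ⟨w, z⟩, ⟨o, o⟩], [⟨w, o⟩, ⟨w, o⟩, ⟨z, z⟩], [⟨w, z⟩, ⟨o, z⟩, ⟨o, o⟩]],
  [[⟨w, w⟩, ⟨w, z⟩, ⟨o, z⟩], [⟨z, z⟩, ⟨o, w⟩, ⟨o, w⟩], [⟨o, o⟩, ⟨w, z⟩, ⟨o, z⟩]],
  [[⟨o, w⟩, ⟨w, o⟩, ⟨z, z⟩], [⟨o, z⟩, ⟨o, z⟩, ⟨o, o⟩], [⟨o, z⟩, ⟨o, z⟩, ⟨w, w⟩]]]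

end Cfsg.Agent.Lib.Lead.U3
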