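import Mathlib
import Cfsg.Agent.Lib.Lead.U3.E9
import Cfsg.Agent.Lib.Lead.U3.Data9

/-!
# Project U3, piece EXPLB3 : the Boolean certificates for the explicit `L_2(7) < SU_3(3)`. (`lead`)
-/

set_option autoImplicit false
set_option maxRecDepth 100000

namespace Cfsg.Agent.Lib.Lead.U3

open E3

/-- `M^k` -/
def cpow (M : CM9) : ℕ → CM9
  | 0 => cone
  | k + 1 => cmul (cpow M k) M

/-- matrix times vector -/
def mv (C : CM9) (v : List E9) : List E9 :=
  row3 (fun i => E9.add (E9.add (E9.mul (ent C i 0) (v.getD 0 E9.zero)) (E9.mul (ent C i 1) (v.getD 1 E9.zero)))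
    (E9.mul (ent C i 2) (v.getD 2 E9.zero)))

/-- the Krylov matrix with columns `w, Cw, C²w` -/
def kry (C : CM9) (w : List E9) : CM9 :=
  let c1 := mv C w
  let c2 := mv C c1
  mk3 (fun i k => match k with
    | 0 => w.getD i E9.zero
    | 1 => c1.getD i E9.zero
    | _ => c2.getD i E9.zero)

def e3s : List E3 := [z, o, w]

def e9s : List E9 := e3s.flatMap fun a => e3s.map fun b => (⟨a, b⟩ : E9)

def allVecs : List (List E9) :=
  e9s.flatMap fun x0 => e9s.flatMap fun x1 => e9s.map fun x2 => [x0, x1, x2]

def stepOK (i : ℕ) : Bool :=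
  (decide (idxS.getD i 0 < 168) && cmul (tbl.getD i []) gs == tbl.getD (idxS.getD i 0) []) &&
  (decide (idxT.getD i 0 < 168) && cmul (tbl.getD i []) gt == tbl.getD (idxT.getD i 0) [])

def closureCheck : Bool := (List.range 168).all stepOK

def parOK (i : ℕ) : Bool :=
  decide (parI.getD (i + 1) 0 < i + 1) &&
  (tbl.getD (i + 1) [] == cmul (tbl.getD (parI.getD (i + 1) 0) []) (if parS.getD (i + 1) true then gs else gt))

def parCheck : Bool := (List.range 167).all parOK

def normOne (w : List E9) : Bool :=
  E9.add (E9.add (E9.mul (w.getD 0 E9.zero) (E9.frob (w.getD 0 E9.zero)))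
    (E9.mul (w.getD 1 E9.zero) (E9.frob (w.getD 1 E9.zero))))
    (E9.mul (w.getD 2 E9.zero) (E9.frob (w.getD 2 E9.zero))) == E9.one

/-- the scalars `-1`, `θ`, `-θ` -/
def sc2 : E9 := ⟨w, z⟩
def sc3 : E9 := ⟨z, o⟩
def sc6 : E9 := ⟨z, w⟩

def candOK (g : CM9) : Bool :=
  !(isU g) || (tbl.contains g || tbl.contains (csmul sc2 g) || tbl.contains (csmul sc3 g) || tbl.contains (csmul sc6 g))

def normCheck (j : ℕ) : Bool :=
  allVecs.all fun v => !(normOne v) || candOK (cmul (kry (tpows.getD j []) v) p0inv)

theorem closureCheck_ok : closureCheck = true := by decide +kernel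

theorem parCheck_ok : parCheck = true := by decide +kernel

theorem tbl_length : tbl.length = 168 := by decide +kernel

theorem tbl_zero : tbl.getD 0 [] = cone := by decide +kernel

theorem gs_pow : cpow gs 3 = cone := by decide +kernel

theorem gt_pow : cpow gt 7 = cone := by decide +kernel

theorem gs_U : isU gs = true := by decide +kernel

theorem gt_U : isU gt = true := by decide +kernel

theorem p0_ok : cmul (kry gt [E9.one, E9.zero, E9.zero]) p0inv = cone := by decide +kernel

theorem dwit_U : isU dwit = true := by decide +kernel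

theorem dwit_pow : cpow dwit 3 = cone := by decide +kernel

theorem dwit_notin : tbl.all (fun M => !(sameEnt M dwit)) = true := by decide +kernel

theorem conj_ne : (List.range 7).all (fun k => !(sameEnt (cmul (cmul gs gt) (cpow gs 2)) (cpow gt k))) = true := by
  decide +kernel

theorem gt_ne : sameEnt gt cone = false := by decide +kernel

theorem tpows_ok : (List.range 7).all (fun j => tpows.getD j [] == cpow gt j) = true := by decide +kernel

theorem normCheck_ok : (List.range 7).all normCheck = true := by decide +kernel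

end Cfsg.Agent.Lib.Lead.U3
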