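import Mathlib
import Cfsg.Agent.Lib.Lead.U3.E9
import Cfsg.Agent.Lib.Helper16.UnitaryFixed

/-!
# Project U3, piece EXPLB3 : concrete `3 × 3` matrices over `E9` versus matrices over an abstract field of nine
elements. (`lead`)
-/

set_option autoImplicit false

namespace Cfsg.Agent.Lib.Lead.U3

open Matrix

variable {F : Type*} [Field F]

/-- the abstract matrix of a concrete one -/
def toMat (θ : F) (M : CM9) : Matrix (Fin 3) (Fin 3) F := fun i j => iota θ (ent M i j)

variable {θ : F}

theorem toMat_apply (M : CM9) (i j : Fin 3) : toMat θ M i j = iota θ (ent M i j) := rfl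

theorem toMat_cmul (h3 : (3 : F) = 0) (hθ : θ ^ 2 = -1) (M N : CM9) :
    toMat θ (cmul M N) = toMat θ M * toMat θ N := by
  ext i j
  rw [Matrix.mul_apply, Fin.sum_univ_three]
  simp only [toMat_apply, cmul, ent_mk3, dot, iota_add h3, iota_mul h3 hθ]
  rfl

theorem toMat_cone : toMat θ cone = (1 : Matrix (Fin 3) (Fin 3) F) := by
  ext i j
  rw [toMat_apply, cone, ent_mk3]
  fin_cases i <;> fin_cases j <;> simp [iota_one, iota_zero]

theorem toMat_csmul (h3 : (3 : F) = 0) (hθ : θ ^ 2 = -1) (c : E9) (M : CM9) :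
    toMat θ (csmul c M) = iota θ c • toMat θ M := by
  ext i j
  rw [toMat_apply, csmul, ent_mk3, iota_mul h3 hθ]
  rfl

theorem iota_udot (h3 : (3 : F) = 0) (hθ : θ ^ 2 = -1) (M : CM9) (i j : Fin 3) :
    iota θ (udot M i j) = ∑ l, toMat θ M l i * (toMat θ M l j) ^ 3 := by
  rw [Fin.sum_univ_three]
  simp only [toMat_apply, udot, iota_add h3, iota_mul h3 hθ, iota_frob h3 hθ]
  rfl

theorem isU_iff (h3 : (3 : F) = 0) (hθ : θ ^ 2 = -1) (M : CM9) :
    isU M = true ↔ Cfsg.Agent.Lib.Helper16.UMat 3 (toMat θ M) := by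
  unfold isU Cfsg.Agent.Lib.Helper16.UMat
  rw [beq_iff_eq]
  constructor
  · intro h i j
    rw [← iota_udot h3 hθ]
    have : udot M i j = ent cone i j := by
      rw [← ent_mk3 (udot M) i j, h]
    rw [this, cone, ent_mk3]
    by_cases hij : i = j
    · subst hij; simp [iota_one]
    · have : (i : ℕ) ≠ (j : ℕ) := fun h => hij (Fin.ext h)
      simp [hij, this, iota_zero]
  · intro h
    unfold cone
    apply mk3_congr
    intro i j
    apply iota_injective h3 hθ
    rw [iota_udot h3 hθ, h i j]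
    by_cases hij : i = j
    · subst hij; simp [iota_one]
    · have : (i : ℕ) ≠ (j : ℕ) := fun h => hij (Fin.ext h)
      simp [hij, this, iota_zero]

theorem sameEnt_of_toMat_eq (h3 : (3 : F) = 0) (hθ : θ ^ 2 = -1) {M N : CM9}
    (h : toMat θ M = toMat θ N) : sameEnt M N = true := by
  unfold sameEnt
  rw [beq_iff_eq]
  apply mk3_congr
  intro i j
  apply iota_injective h3 hθ
  have := congrFun (congrFun h i) j
  simpa [toMat_apply] using this

end Cfsg.Agent.Lib.Lead.U3
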