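import Mathlib
import Cfsg.Prelude.Def_GeometricClasses
import Cfsg.Agent.Lib.Lead.U3.Glue9
import Cfsg.Agent.Lib.Lead.U3.Cert9

/-!
# Project U3, piece EXPLB3 : abstract consequences of the certificates, part 1 (matrix level). (`lead`)
-/

set_option autoImplicit false

namespace Cfsg.Agent.Lib.Lead.U3

open Matrix

variable {F : Type*} [Field F]

instance : Fintype E3 := ⟨{E3.z, E3.o, E3.w}, by intro x; cases x <;> simp⟩

instance : Fintype E9 :=
  Fintype.ofEquiv (E3 × E3)
    { toFun := fun p => ⟨p.1, p.2⟩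
      invFun := fun x => (x.re, x.im)
      left_inv := fun _ => rfl
      right_inv := fun _ => rfl }

theorem card_E3 : Fintype.card E3 = 3 := rfl

theorem card_E9 : Fintype.card E9 = 9 := by
  rw [Fintype.card_congr (show E9 ≃ E3 × E3 from
    { toFun := fun x => (x.re, x.im)
      invFun := fun p => ⟨p.1, p.2⟩
      left_inv := fun _ => rfl
      right_inv := fun _ => rfl }), Fintype.card_prod, card_E3]

section basics

variable {θ : F}

theorem toMat_cpow (h3 : (3 : F) = 0) (hθ : θ ^ 2 = -1) (M : CM9) (k : ℕ) :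
    toMat θ (cpow M k) = toMat θ M ^ k := by
  induction k with
  | zero => simp [cpow, toMat_cone]
  | succ k ih => rw [cpow, toMat_cmul h3 hθ, ih, pow_succ]

/-- the abstract vector of a concrete one -/
def toVec (θ : F) (v : List E9) : Fin 3 → F := fun i => iota θ (v.getD i E9.zero)

theorem row3_getD (f : ℕ → E9) (i : Fin 3) : (row3 f).getD i E9.zero = f i := by
  fin_cases i <;> rfl

theorem toVec_mv (h3 : (3 : F) = 0) (hθ : θ ^ 2 = -1) (C : CM9) (v : List E9) :
    toVec θ (mv C v) = toMat θ C *ᵥ toVec θ v := by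
  ext i
  rw [Matrix.mulVec, dotProduct, Fin.sum_univ_three]
  simp only [toVec, mv, row3_getD, toMat_apply, iota_add h3, iota_mul h3 hθ]
  rfl

/-- the abstract Krylov matrix -/
def Kry (A : Matrix (Fin 3) (Fin 3) F) (v : Fin 3 → F) : Matrix (Fin 3) (Fin 3) F :=
  fun i k => ((A ^ (k : ℕ)) *ᵥ v) i

theorem toMat_kry (h3 : (3 : F) = 0) (hθ : θ ^ 2 = -1) (C : CM9) (w : List E9) :
    toMat θ (kry C w) = Kry (toMat θ C) (toVec θ w) := by
  have step : ∀ (k : ℕ) (u : List E9), toVec θ u = (toMat θ C ^ k) *ᵥ toVec θ w →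
      toVec θ (mv C u) = (toMat θ C ^ (k + 1)) *ᵥ toVec θ w := by
    intro k u hu
    rw [toVec_mv h3 hθ, hu, Matrix.mulVec_mulVec, pow_succ']
  have h0 : toVec θ w = (toMat θ C ^ 0) *ᵥ toVec θ w := by simp
  have h1 := step 0 w h0
  have h2' := step 1 _ h1
  ext i k
  rw [toMat_apply, kry, ent_mk3, Kry]
  fin_cases k
  · exact congrFun h0 i
  · exact congrFun h1 i
  · exact congrFun h2' i

theorem mul_Kry (G A B : Matrix (Fin 3) (Fin 3) F) (v : Fin 3 → F) (h : G * A = B * G) :
    G * Kry A v = Kry B (G *ᵥ v) := by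
  have hk : ∀ k : ℕ, G * A ^ k = B ^ k * G := by
    intro k
    induction k with
    | zero => simp
    | succ k ih => rw [pow_succ, ← mul_assoc, ih, mul_assoc, h, ← mul_assoc, ← pow_succ]
  ext i k
  rw [Matrix.mul_apply, Kry]
  have : (∑ l, G i l * Kry A v l k) = (G *ᵥ ((A ^ (k : ℕ)) *ᵥ v)) i := by
    rw [Matrix.mulVec, dotProduct]
    rfl
  rw [this, Matrix.mulVec_mulVec, hk, ← Matrix.mulVec_mulVec]

end basics

end Cfsg.Agent.Lib.Lead.U3
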