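import Mathlib
import Cfsg.Prelude.Def_GeometricClasses
import Cfsg.Agent.Lib.Lead.U3.Expl9a

/-!
# Project U3, piece EXPLB3 : abstract consequences of the certificates, part 2 (the normaliser). (`lead`)
-/

set_option autoImplicit false

namespace Cfsg.Agent.Lib.Lead.U3

open Matrix Cfsg.Agent.Lib.Helper16

variable {F : Type*} [Field F] {θ : F}

theorem mem_e3s (x : E3) : x ∈ e3s := by cases x <;> simp [e3s]

theorem mem_e9s (x : E9) : x ∈ e9s := by
  unfold e9s
  simp only [List.mem_flatMap, List.mem_map]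
  exact ⟨x.re, mem_e3s _, x.im, mem_e3s _, rfl⟩

theorem mem_allVecs (x0 x1 x2 : E9) : [x0, x1, x2] ∈ allVecs := by
  unfold allVecs
  simp only [List.mem_flatMap, List.mem_map]
  exact ⟨x0, mem_e9s x0, x1, mem_e9s x1, x2, mem_e9s x2, rfl⟩

theorem tpows_eq (j : ℕ) (hj : j < 7) : tpows.getD j [] = cpow gt j := by
  have h := tpows_ok
  rw [List.all_eq_true] at h
  have := h j (List.mem_range.mpr hj)
  exact beq_iff_eq.mp this

theorem normCheck_lt (j : ℕ) (hj : j < 7) : normCheck j = true := by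
  have h := normCheck_ok
  rw [List.all_eq_true] at h
  exact h j (List.mem_range.mpr hj)

/-- the key consequence of the normaliser certificates -/
theorem norm_mem (h3 : (3 : F) = 0) (hθ : θ ^ 2 = -1) (hsurj : ∀ x : F, ∃ e : E9, iota θ e = x)
    (G : Matrix (Fin 3) (Fin 3) F) (hU : UMat 3 G) (j : ℕ) (hj : j < 7)
    (hcomm : G * toMat θ gt = toMat θ gt ^ j * G) :
    ∃ M ∈ tbl, G = toMat θ M ∨ iota θ sc2 • G = toMat θ M ∨ iota θ sc3 • G = toMat θ M ∨
      iota θ sc6 • G = toMat θ M := by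
  classical
  -- the first column
  choose e he using fun i : Fin 3 => hsurj (G i 0)
  set w : List E9 := [e 0, e 1, e 2] with hw
  have hwv : toVec θ w = G *ᵥ toVec θ [E9.one, E9.zero, E9.zero] := by
    ext i
    rw [Matrix.mulVec, dotProduct, Fin.sum_univ_three]
    fin_cases i <;> simp [toVec, hw, he, iota_zero, iota_one]
  -- the Krylov identity
  have hK := mul_Kry G (toMat θ gt) (toMat θ gt ^ j) (toVec θ [E9.one, E9.zero, E9.zero]) hcomm
  rw [← hwv, ← toMat_kry h3 hθ, ← toMat_cpow h3 hθ, ← tpows_eq j hj, ← toMat_kry h3 hθ] at hK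
  have hP : toMat θ (kry gt [E9.one, E9.zero, E9.zero]) * toMat θ p0inv = 1 := by
    rw [← toMat_cmul h3 hθ, p0_ok, toMat_cone]
  have hG : G = toMat θ (cmul (kry (tpows.getD j []) w) p0inv) := by
    rw [toMat_cmul h3 hθ, ← hK, mul_assoc, hP, mul_one]
  -- the certificate
  have hc := normCheck_lt j hj
  unfold normCheck at hc
  rw [List.all_eq_true] at hc
  have hcw := hc w (mem_allVecs _ _ _)
  have hn1 : normOne w = true := by
    unfold normOne
    rw [beq_iff_eq]
    apply iota_injective h3 hθ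
    have h00 := hU 0 0
    rw [Fin.sum_univ_three] at h00
    simp only [iota_add h3, iota_mul h3 hθ, iota_frob h3 hθ, hw, List.getD_cons_zero, List.getD_cons_succ, he]
    rw [iota_one]
    simpa using h00
  rw [hn1] at hcw
  simp only [Bool.not_true, Bool.false_or] at hcw
  unfold candOK at hcw
  have hisU : isU (cmul (kry (tpows.getD j []) w) p0inv) = true := by
    rw [isU_iff h3 hθ, ← hG]
    exact hU
  rw [hisU] at hcw
  simp only [Bool.not_true, Bool.false_or, Bool.or_eq_true, List.contains_iff_mem] at hcw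
  rcases hcw with ((hm | hm) | hm) | hm
  · exact ⟨_, hm, Or.inl hG⟩
  · refine ⟨_, hm, Or.inr (Or.inl ?_)⟩
    rw [toMat_csmul h3 hθ, ← hG]
  · refine ⟨_, hm, Or.inr (Or.inr (Or.inl ?_))⟩
    rw [toMat_csmul h3 hθ, ← hG]
  · refine ⟨_, hm, Or.inr (Or.inr (Or.inr ?_))⟩
    rw [toMat_csmul h3 hθ, ← hG]

end Cfsg.Agent.Lib.Lead.U3
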