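import Mathlib
import Cfsg.Prelude.Def_GeometricClasses
import Cfsg.Agent.Lib.Lead.ASCU.Defs
import Cfsg.Agent.Lib.Lead.U3.Expl9b

/-!
# Project U3, piece EXPLB3 : the explicit subgroup `L ≅ L_2(7)` of `SU_3(3)` (group level). (`lead`)
-/

set_option autoImplicit false

namespace Cfsg.Agent.Lib.Lead.U3

open Matrix Cfsg Cfsg.Geo Cfsg.Agent.Lib.Helper16 Cfsg.Agent.Lib.Lead.ASCU
open scoped MatrixGroups

variable {F : Type*} [Field F]

theorem exists_theta [Fintype F] (hF : Fintype.card F = 3 ^ 2) :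
    (3 : F) = 0 ∧ ∃ θ : F, θ ^ 2 = -1 ∧ ∀ x : F, ∃ e : E9, iota θ e = x := by
  classical
  have h9 : ((Fintype.card F : ℕ) : F) = 0 := Nat.cast_card_eq_zero F
  have h3 : (3 : F) = 0 := by
    rw [hF] at h9
    have : (3 : F) * 3 = 0 := by
      have e : (((3 ^ 2 : ℕ)) : F) = 3 * 3 := by norm_num
      rw [← e]; exact h9
    exact mul_self_eq_zero.mp this
  refine ⟨h3, ?_⟩
  have hsq : IsSquare (-1 : F) := by
    rw [FiniteField.isSquare_neg_one_iff, hF]
    norm_num
  obtain ⟨r, hr⟩ := hsq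
  have hθ : r ^ 2 = -1 := by rw [pow_two, ← hr]
  refine ⟨r, hθ, ?_⟩
  have hinj := iota_injective (θ := r) h3 hθ
  have hbij : Function.Bijective (iota r) := by
    rw [Fintype.bijective_iff_injective_and_card]
    exact ⟨hinj, by rw [card_E9, hF]; norm_num⟩
  exact hbij.2

section grp

variable {θ : F} (h3 : (3 : F) = 0) (hθ : θ ^ 2 = -1)

include h3 hθ in
theorem gs_pow' : toMat θ (cpow gs 2) * toMat θ gs = 1 := by
  rw [← toMat_cmul h3 hθ]
  show toMat θ (cpow gs 3) = 1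
  rw [gs_pow, toMat_cone]

include h3 hθ in
theorem gt_pow' : toMat θ (cpow gt 6) * toMat θ gt = 1 := by
  rw [← toMat_cmul h3 hθ]
  show toMat θ (cpow gt 7) = 1
  rw [gt_pow, toMat_cone]

/-- the element of order `3` -/
def sG : GL (Fin 3) F :=
  ⟨toMat θ gs, toMat θ (cpow gs 2), mul_eq_one_comm.mp (gs_pow' h3 hθ), gs_pow' h3 hθ⟩

/-- the element of order `7` -/
def tG : GL (Fin 3) F :=
  ⟨toMat θ gt, toMat θ (cpow gt 6), mul_eq_one_comm.mp (gt_pow' h3 hθ), gt_pow' h3 hθ⟩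

theorem sG_val : ((sG h3 hθ : GL (Fin 3) F) : Matrix (Fin 3) (Fin 3) F) = toMat θ gs := rfl

theorem tG_val : ((tG h3 hθ : GL (Fin 3) F) : Matrix (Fin 3) (Fin 3) F) = toMat θ gt := rfl

theorem sG_pow : sG h3 hθ ^ 3 = 1 := by
  apply Units.ext
  rw [Units.val_pow_eq_pow_val, sG_val, ← toMat_cpow h3 hθ, gs_pow, toMat_cone]
  rfl

theorem tG_pow : tG h3 hθ ^ 7 = 1 := by
  apply Units.ext
  rw [Units.val_pow_eq_pow_val, tG_val, ← toMat_cpow h3 hθ, gt_pow, toMat_cone]
  rfl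

theorem tG_ne_one : tG h3 hθ ≠ 1 := by
  intro h
  have h1 : toMat θ gt = toMat θ cone := by
    rw [toMat_cone, ← tG_val h3 hθ, h]; rfl
  have := sameEnt_of_toMat_eq h3 hθ h1
  rw [gt_ne] at this
  exact Bool.false_ne_true this

theorem orderOf_tG : orderOf (tG h3 hθ) = 7 := by
  have h7 : (7 : ℕ).Prime := by norm_num
  haveI : Fact (7 : ℕ).Prime := ⟨h7⟩
  exact orderOf_eq_prime (tG_pow h3 hθ) (tG_ne_one h3 hθ)

/-- the explicit group -/
def Lgrp : Subgroup (GL (Fin 3) F) := Subgroup.closure {sG h3 hθ, tG h3 hθ}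

theorem mem_tbl_of_lt {i : ℕ} (hi : i < 168) : tbl.getD i [] ∈ tbl := by
  have hl : i < tbl.length := by rw [tbl_length]; exact hi
  rw [List.getD_eq_getElem _ _ hl]
  exact List.getElem_mem hl

theorem exists_index {M : CM9} (hM : M ∈ tbl) : ∃ i < 168, M = tbl.getD i [] := by
  obtain ⟨i, hi, rfl⟩ := List.mem_iff_getElem.mp hM
  refine ⟨i, by rw [← tbl_length]; exact hi, ?_⟩
  rw [List.getD_eq_getElem _ _ hi]

/-- right multiplication by the generators stays in the table -/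
theorem tbl_step {M : CM9} (hM : M ∈ tbl) : cmul M gs ∈ tbl ∧ cmul M gt ∈ tbl := by
  obtain ⟨i, hi, rfl⟩ := exists_index hM
  have h := closureCheck_ok
  unfold closureCheck at h
  rw [List.all_eq_true] at h
  have hs := h i (List.mem_range.mpr hi)
  unfold stepOK at hs
  simp only [Bool.and_eq_true, decide_eq_true_eq, beq_iff_eq] at hs
  obtain ⟨⟨ha, hsa⟩, ⟨hb, hsb⟩⟩ := hs
  rw [hsa, hsb]
  exact ⟨mem_tbl_of_lt ha, mem_tbl_of_lt hb⟩

/-- every table entry is the matrix of an element of `L` -/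
theorem reach (i : ℕ) (hi : i < 168) :
    ∃ l ∈ Lgrp h3 hθ, ((l : GL (Fin 3) F) : Matrix (Fin 3) (Fin 3) F) = toMat θ (tbl.getD i []) := by
  induction i using Nat.strong_induction_on with
  | _ i ih =>
    rcases Nat.eq_zero_or_pos i with rfl | hpos
    · exact ⟨1, (Lgrp h3 hθ).one_mem, by rw [tbl_zero, toMat_cone]; rfl⟩
    · obtain ⟨k, rfl⟩ : ∃ k, i = k + 1 := ⟨i - 1, by omega⟩
      have h := parCheck_ok
      unfold parCheck at h
      rw [List.all_eq_true] at h
      have hp := h k (List.mem_range.mpr (by omega))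
      unfold parOK at hp
      simp only [Bool.and_eq_true, decide_eq_true_eq, beq_iff_eq] at hp
      obtain ⟨hlt, heq⟩ := hp
      obtain ⟨l', hl', hl'v⟩ := ih _ hlt (by omega)
      rw [heq]
      by_cases hS : parS.getD (k + 1) true = true
      · rw [if_pos hS]
        refine ⟨l' * sG h3 hθ, (Lgrp h3 hθ).mul_mem hl' (Subgroup.subset_closure (by simp)), ?_⟩
        rw [Units.val_mul, hl'v, sG_val, toMat_cmul h3 hθ]
      · rw [if_neg hS]
        refine ⟨l' * tG h3 hθ, (Lgrp h3 hθ).mul_mem hl' (Subgroup.subset_closure (by simp)), ?_⟩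
        rw [Units.val_mul, hl'v, tG_val, toMat_cmul h3 hθ]

theorem reach' {M : CM9} (hM : M ∈ tbl) :
    ∃ l ∈ Lgrp h3 hθ, ((l : GL (Fin 3) F) : Matrix (Fin 3) (Fin 3) F) = toMat θ M := by
  obtain ⟨i, hi, rfl⟩ := exists_index hM
  exact reach h3 hθ i hi

/-- the property of staying in the table under right multiplication -/
def Stays (θ : F) (g : GL (Fin 3) F) : Prop :=
  ∀ M ∈ tbl, ∃ M' ∈ tbl, toMat θ M * (g : Matrix (Fin 3) (Fin 3) F) = toMat θ M'

theorem stays_one : Stays θ (1 : GL (Fin 3) F) := fun M hM => ⟨M, hM, by simp⟩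

theorem stays_mul {g h : GL (Fin 3) F} (hg : Stays θ g) (hh : Stays θ h) : Stays θ (g * h) := by
  intro M hM
  obtain ⟨M1, hM1, e1⟩ := hg M hM
  obtain ⟨M2, hM2, e2⟩ := hh M1 hM1
  exact ⟨M2, hM2, by rw [Units.val_mul, ← mul_assoc, e1, e2]⟩

theorem stays_pow {g : GL (Fin 3) F} (hg : Stays θ g) (k : ℕ) : Stays θ (g ^ k) := by
  induction k with
  | zero => simpa using stays_one
  | succ k ih => rw [pow_succ]; exact stays_mul ih hg

theorem stays_sG : Stays θ (sG h3 hθ) := fun M hM =>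
  ⟨cmul M gs, (tbl_step hM).1, by rw [sG_val, toMat_cmul h3 hθ]⟩

theorem stays_tG : Stays θ (tG h3 hθ) := fun M hM =>
  ⟨cmul M gt, (tbl_step hM).2, by rw [tG_val, toMat_cmul h3 hθ]⟩

theorem sG_inv : (sG h3 hθ)⁻¹ = sG h3 hθ ^ 2 := by
  apply inv_eq_of_mul_eq_one_right
  rw [← pow_succ']
  exact sG_pow h3 hθ

theorem tG_inv : (tG h3 hθ)⁻¹ = tG h3 hθ ^ 6 := by
  apply inv_eq_of_mul_eq_one_right
  rw [← pow_succ']
  exact tG_pow h3 hθ

theorem stays_of_mem {l : GL (Fin 3) F} (hl : l ∈ Lgrp h3 hθ) : Stays θ l := by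
  have key : ∀ x ∈ Submonoid.closure
      (({sG h3 hθ, tG h3 hθ} : Set (GL (Fin 3) F)) ∪ ({sG h3 hθ, tG h3 hθ} : Set (GL (Fin 3) F))⁻¹),
      Stays θ x := by
    intro x hx
    induction hx using Submonoid.closure_induction with
    | mem x hx =>
      rcases hx with hx | hx
      · rcases hx with rfl | hx
        · exact stays_sG h3 hθ
        · rw [Set.mem_singleton_iff] at hx; subst hx; exact stays_tG h3 hθ
      · rw [Set.mem_inv] at hx
        rcases hx with hx | hx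
        · have : x = sG h3 hθ ^ 2 := by rw [← inv_inv x, hx, sG_inv]
          rw [this]; exact stays_pow (stays_sG h3 hθ) 2
        · rw [Set.mem_singleton_iff] at hx
          have : x = tG h3 hθ ^ 6 := by rw [← inv_inv x, hx, tG_inv]
          rw [this]; exact stays_pow (stays_tG h3 hθ) 6
    | one => exact stays_one
    | mul x y _ _ hx hy => exact stays_mul hx hy
  have h1 : l ∈ (Lgrp h3 hθ).toSubmonoid := hl
  unfold Lgrp at h1
  rw [Subgroup.closure_toSubmonoid] at h1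
  exact key l h1

/-- every element of `L` has its matrix in the table -/
theorem in_tbl {l : GL (Fin 3) F} (hl : l ∈ Lgrp h3 hθ) :
    ∃ M ∈ tbl, ((l : GL (Fin 3) F) : Matrix (Fin 3) (Fin 3) F) = toMat θ M := by
  have hc : cone ∈ tbl := by rw [← tbl_zero]; exact mem_tbl_of_lt (by norm_num)
  obtain ⟨M', hM', e⟩ := stays_of_mem h3 hθ hl cone hc
  exact ⟨M', hM', by rw [← e, toMat_cone, one_mul]⟩

end grp

end Cfsg.Agent.Lib.Lead.U3
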