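import Mathlib
import Cfsg.Prelude.Def_GeometricClasses
import Cfsg.Agent.Lib.Lead.ASCU.Defs
import Cfsg.Agent.Lib.Lead.U3.Expl9c

/-!
# Project U3, piece EXPLB3 : an explicit `L_2(7) < SU_3(3)` containing the normaliser of its Sylow `7`-subgroup. (`lead`)
-/

set_option autoImplicit false

namespace Cfsg.Agent.Lib.Lead.U3

open Matrix Cfsg Cfsg.Geo Cfsg.Agent.Lib.Helper16 Cfsg.Agent.Lib.Lead.ASCU
open scoped MatrixGroups

variable {F : Type*} [Field F] [Fintype F]

/-- an element of odd order of `GL_3(F_9)` has determinant one -/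
theorem mem_SL_of_pow (hF : Fintype.card F = 3 ^ 2) (g : GL (Fin 3) F) (k : ℕ) (hk : g ^ k = 1)
    (hcop : Nat.Coprime k 8) : g ∈ specialLinear (Fin 3) F := by
  classical
  unfold specialLinear
  rw [MonoidHom.mem_ker]
  set d : Fˣ := Matrix.GeneralLinearGroup.det g with hd
  have h1 : d ^ k = 1 := by rw [hd, ← map_pow, hk, map_one]
  have h8 : d ^ 8 = 1 := by
    have : Fintype.card Fˣ = 8 := by rw [Fintype.card_units, hF]; norm_num
    rw [← this]
    exact pow_card_eq_one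
  have hdvd : orderOf d ∣ Nat.gcd k 8 := Nat.dvd_gcd (orderOf_dvd_of_pow_eq_one h1) (orderOf_dvd_of_pow_eq_one h8)
  rw [hcop.gcd_eq_one, Nat.dvd_one, orderOf_eq_one_iff] at hdvd
  exact hdvd

theorem mem_SL_iff (g : GL (Fin 3) F) :
    g ∈ specialLinear (Fin 3) F ↔ Matrix.det (g : Matrix (Fin 3) (Fin 3) F) = 1 := by
  unfold specialLinear
  rw [MonoidHom.mem_ker]
  constructor
  · intro h
    have := congrArg Units.val h
    simpa using this
  · intro h
    apply Units.ext
    simpa using h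

theorem explicit_L3' (hF : Fintype.card F = 3 ^ 2) :
    ∃ (L : Subgroup (GL (Fin 3) F)) (c₀ : GL (Fin 3) F), L ≤ SUg 3 F 3 ∧ L ≠ SUg 3 F 3 ∧ c₀ ∈ L ∧ orderOf c₀ = 7 ∧
      (∀ g ∈ SUg 3 F 3, g * c₀ * g⁻¹ ∈ Subgroup.zpowers c₀ → g ∈ L) ∧
      (∃ a ∈ L, ¬ (a * c₀ * a⁻¹ ∈ Subgroup.zpowers c₀)) := by
  classical
  obtain ⟨h3, θ, hθ, hsurj⟩ := exists_theta hF
  haveI : CharP F 3 := by
    have : ((3 : ℕ) : F) = 0 := by exact_mod_cast h3
    exact (CharP.charP_iff_prime_eq_zero Nat.prime_three).mpr this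
  have hGU : ∀ g : GL (Fin 3) F, g ∈ GU 3 F 3 ↔ UMat 3 (g : Matrix (Fin 3) (Fin 3) F) := fun g =>
    mem_GU_iff_UMat (p := 3) (a := 1) Nat.prime_three (by norm_num) (by norm_num) g
  have hord := orderOf_tG h3 hθ
  -- generators in `SU`
  have hsSU : sG h3 hθ ∈ SUg 3 F 3 := by
    refine Subgroup.mem_inf.mpr ⟨(hGU _).mpr ?_, ?_⟩
    · rw [sG_val, ← isU_iff h3 hθ]; exact gs_U
    · exact mem_SL_of_pow hF _ 3 (sG_pow h3 hθ) (by norm_num)
  have htSU : tG h3 hθ ∈ SUg 3 F 3 := by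
    refine Subgroup.mem_inf.mpr ⟨(hGU _).mpr ?_, ?_⟩
    · rw [tG_val, ← isU_iff h3 hθ]; exact gt_U
    · exact mem_SL_of_pow hF _ 7 (tG_pow h3 hθ) (by norm_num)
  have hLle : Lgrp h3 hθ ≤ SUg 3 F 3 := by
    unfold Lgrp
    rw [Subgroup.closure_le]
    intro x hx
    rcases hx with rfl | hx
    · exact hsSU
    · rw [Set.mem_singleton_iff] at hx; subst hx; exact htSU
  have hsL : sG h3 hθ ∈ Lgrp h3 hθ := Subgroup.subset_closure (by simp)
  have htL : tG h3 hθ ∈ Lgrp h3 hθ := Subgroup.subset_closure (by simp)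
  -- reduce an element of `zpowers` to an exponent below `7`
  have hexp : ∀ x : GL (Fin 3) F, x ∈ Subgroup.zpowers (tG h3 hθ) → ∃ j : ℕ, j < 7 ∧ x = tG h3 hθ ^ j := by
    intro x hx
    obtain ⟨k, rfl⟩ := Subgroup.mem_zpowers_iff.mp hx
    refine ⟨(k % 7).toNat, ?_, ?_⟩
    · have := Int.emod_lt_of_pos k (by norm_num : (0 : ℤ) < 7)
      omega
    · have h0 : 0 ≤ k % 7 := Int.emod_nonneg k (by norm_num)
      rw [← zpow_natCast, Int.toNat_of_nonneg h0]
      have := zpow_mod_orderOf (tG h3 hθ) k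
      rw [hord] at this
      exact this.symm
  have h1ne : (1 : F) ≠ 0 := one_ne_zero
  refine ⟨Lgrp h3 hθ, tG h3 hθ, hLle, ?_, htL, hord, ?_, ?_⟩
  · -- proper
    intro hEq
    have hd1 : toMat θ (cpow dwit 2) * toMat θ dwit = 1 := by
      rw [← toMat_cmul h3 hθ]
      show toMat θ (cpow dwit 3) = 1
      rw [dwit_pow, toMat_cone]
    let dG : GL (Fin 3) F := ⟨toMat θ dwit, toMat θ (cpow dwit 2), mul_eq_one_comm.mp hd1, hd1⟩
    have hdSU : dG ∈ SUg 3 F 3 := by
      refine Subgroup.mem_inf.mpr ⟨(hGU _).mpr ?_, ?_⟩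
      · show UMat 3 (toMat θ dwit); rw [← isU_iff h3 hθ]; exact dwit_U
      · refine mem_SL_of_pow hF _ 3 ?_ (by norm_num)
        apply Units.ext
        rw [Units.val_pow_eq_pow_val]
        show toMat θ dwit ^ 3 = 1
        rw [← toMat_cpow h3 hθ, dwit_pow, toMat_cone]
    rw [← hEq] at hdSU
    obtain ⟨M, hM, e⟩ := in_tbl h3 hθ hdSU
    have e' : toMat θ M = toMat θ dwit := e.symm
    have hs := sameEnt_of_toMat_eq h3 hθ e'
    have hn := dwit_notin
    rw [List.all_eq_true] at hn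
    have := hn M hM
    rw [hs] at this
    simp at this
  · -- the normaliser
    intro g hg hgc
    obtain ⟨j, hj, hj'⟩ := hexp _ hgc
    have hcomm : (g : Matrix (Fin 3) (Fin 3) F) * toMat θ gt = toMat θ gt ^ j * (g : Matrix (Fin 3) (Fin 3) F) := by
      have h1 : g * tG h3 hθ = tG h3 hθ ^ j * g := by
        rw [← hj']; group
      have := congrArg (fun u : GL (Fin 3) F => (u : Matrix (Fin 3) (Fin 3) F)) h1
      simpa [Units.val_mul, Units.val_pow_eq_pow_val, tG_val] using this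
    have hU : UMat 3 (g : Matrix (Fin 3) (Fin 3) F) := (hGU g).mp (Subgroup.mem_inf.mp hg).1
    have hdet : Matrix.det (g : Matrix (Fin 3) (Fin 3) F) = 1 := (mem_SL_iff g).mp (Subgroup.mem_inf.mp hg).2
    obtain ⟨M, hM, hcase⟩ := norm_mem h3 hθ hsurj _ hU j hj hcomm
    obtain ⟨l, hl, hlv⟩ := reach' h3 hθ hM
    have hldet : Matrix.det (l : Matrix (Fin 3) (Fin 3) F) = 1 := (mem_SL_iff l).mp (Subgroup.mem_inf.mp (hLle hl)).2
    have e2 : iota θ sc2 = -1 := by
      simp only [iota, sc2, iota3]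
      linear_combination h3
    have e3 : iota θ sc3 = θ := by
      simp only [iota, sc3, iota3]
      ring
    have e6 : iota θ sc6 = -θ := by
      simp only [iota, sc6, iota3]
      linear_combination θ * h3
    have hθ1 : θ ≠ 1 := by
      rintro rfl
      apply h1ne
      linear_combination h3 - hθ
    have hθm1 : θ ≠ -1 := by
      rintro rfl
      apply h1ne
      linear_combination h3 - hθ
    rcases hcase with e | e | e | e
    · have : g = l := Units.ext (by rw [e, hlv])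
      rw [this]; exact hl
    · exfalso
      have h1 : Matrix.det (iota θ sc2 • (g : Matrix (Fin 3) (Fin 3) F)) = 1 := by rw [e, ← hlv, hldet]
      rw [Matrix.det_smul, hdet, mul_one, Fintype.card_fin, e2] at h1
      apply h1ne
      linear_combination h3 + h1
    · exfalso
      have h1 : Matrix.det (iota θ sc3 • (g : Matrix (Fin 3) (Fin 3) F)) = 1 := by rw [e, ← hlv, hldet]
      rw [Matrix.det_smul, hdet, mul_one, Fintype.card_fin, e3] at h1
      apply hθm1
      linear_combination (-1 : F) * h1 + θ * hθ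
    · exfalso
      have h1 : Matrix.det (iota θ sc6 • (g : Matrix (Fin 3) (Fin 3) F)) = 1 := by rw [e, ← hlv, hldet]
      rw [Matrix.det_smul, hdet, mul_one, Fintype.card_fin, e6] at h1
      apply hθ1
      linear_combination h1 + θ * hθ
  · -- `s` does not normalise
    refine ⟨sG h3 hθ, hsL, ?_⟩
    intro hmem
    obtain ⟨j, hj, hj'⟩ := hexp _ hmem
    have h1 := congrArg (fun u : GL (Fin 3) F => (u : Matrix (Fin 3) (Fin 3) F)) hj'
    simp only [Units.val_mul, Units.val_pow_eq_pow_val, tG_val, sG_val, sG_inv h3 hθ] at h1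
    rw [← toMat_cmul h3 hθ, ← toMat_cpow h3 hθ, ← toMat_cmul h3 hθ, ← toMat_cpow h3 hθ] at h1
    have hs := sameEnt_of_toMat_eq h3 hθ h1
    have hn := conj_ne
    rw [List.all_eq_true] at hn
    have := hn j (List.mem_range.mpr hj)
    rw [hs] at this
    simp at this

end Cfsg.Agent.Lib.Lead.U3
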